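import Cfsg.Agent.H190.Cov.Rad8c
import Cfsg.Agent.H73.Rg.HMain

/-!
# Reducedness for half classes in `E₆(q)`, `²E₆(q)`, `3 ≤ q` (helper70)

* `redK`, `mainK` : `H73.Rg.redH`, `H73.Rg.mainH` where `Good` is replaced by `Good` or `KillB`;
* `good_e6_9_12`, `good_e6_9_8`, `good_e6_8_12`, `good_te6_18_12`, `good_te6_18_8`, `good_te6_8_12`.
-/

set_option autoImplicit false

namespace Cfsg.Agent.H70.Rg

open Cfsg Cfsg.Agent.OrdDiv Cfsg.Agent.H436 Cfsg.Agent.H902 Cfsg.Agent.H902.Names Cfsg.Agent.H915.GN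
  Cfsg.Agent.H290.ElReg Cfsg.Agent.H290.ElTab Cfsg.Agent.H290.ElCross Cfsg.Agent.H264.FKS Cfsg.Agent.H56.Exc
  Cfsg.Agent.H325.Loc Cfsg.Agent.H563.KG Cfsg.Agent.H190.Odd Cfsg.Agent.H73.Rg

section main

variable {n p f : ℕ} {fam : List ℕ} {M E : ℕ → ℕ}

/-- reducedness from `Good` or `KillB` -/
theorem redK (hcyc : CycFixSolv.{0}) (hp : p.Prime) (hf : 1 ≤ f) {F : Type} [Field F] [CharP F p]
    {T : Type} [Group T] [Finite T] (hrep : Fth n F T)
    (hbig : ∀ c ∈ fam, ∀ r, Prim (p ^ f) c r → Big T r (M c) (E c))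
    {c₀ r₀ : ℕ} (hc₀ : c₀ ∈ fam) (hr₀ : Prim p (f * c₀) r₀) (hpiso : PIso p r₀ T)
    {B : Subgroup T} (hr₀B : r₀ ∣ Nat.card B)
    (hgood : ∀ t : ℕ, t.Prime → t ≠ p → (∀ c ∈ fam, ¬ Prim p (f * c) t) → t ∣ Nat.card B → Good B n t ∨ KillB B t) :
    Red ↥B (Pr (FmH p f fam M E (Nat.card B))) := by
  have := Fact.mk hp
  obtain ⟨τ, hτ⟩ := hrep.sub B.subtype B.subtype_injective
  refine red_kill (p := p) hcyc (fun A hA hAp => pcore_of_piso (hpiso.sub B) hr₀B A hA hAp)
    (pr_fmH.2 ⟨c₀, hc₀, hr₀, hr₀B⟩) hr₀.prime hr₀B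
    (fun x hx => ((hbig c₀ hc₀ r₀ (prim_q hf hr₀)).subgroup B).cyc x hx) fun t ht htp htn htB => ?_
  rcases hgood t ht htp (fun c hc h => htn (pr_fmH.2 ⟨c, hc, h, htB⟩)) htB with h | h
  · exact Good.kill hτ h ht htp (by rw [Fintype.card_fin])
  · exact h

/-- **Two half classes, reducedness by `Good` or `KillB`.** -/
theorem mainK (tb : OrderTable.{0}) (hcyc : CycFixSolv.{0})
    (hcfsg : ∀ (S : Type) [Group S] [Finite S] [IsSimpleGroup S], IsKnownSimple' S) (haut : AltAut)
    {D : TD} {exc : List (Art.Sh × ℕ × ℕ)} (ht : TblH n D exc (E D.e) (E D.e'))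
    (hp : p.Prime) (hf : 1 ≤ f) (hq : D.q₀ ≤ p ^ f) {F : Type} [Field F] [CharP F p]
    {T : Type} [Group T] [Finite T] (hrep : Fth n F T) (hdT : Nat.card T ∣ OL D.Y (p ^ f))
    (hbig : ∀ c ∈ [D.e, D.e'], ∀ r, Prim (p ^ f) c r → Big T r (M c) (E c))
    {B : Subgroup T} (h1 : HAt p f D.e B) (h2 : HAt p f D.e' B)
    (hsep : ∀ c ∈ [D.e, D.e'], ¬ Nat.card B ∣ E c * M c)
    (hex : ∀ c ∈ D.exs, ∃ s, Prim p (f * c) s ∧ s ∣ Nat.card B ∧ ¬ s ∣ E D.e * M D.e)
    {c₀ : ℕ} (hc₀ : c₀ ∈ [D.e, D.e']) (hpiso : ∀ r, Prim (p ^ f) c₀ r → PIso p r T)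
    (hgood : ∀ t : ℕ, t.Prime → t ≠ p → ¬ Prim p (f * D.e) t → ¬ Prim p (f * D.e') t → t ∣ Nat.card B →
      Good B n t ∨ KillB B t)
    (hexc : ∀ (S : Subgroup B), ConH p f M E D.e D.e' S → ∀ g l X a, l.Prime → IsNamed g S → IsLie g X l a →
      (X, (l, a)) ∈ exc → False) :
    ∃ S : Subgroup B, ConH p f M E D.e D.e' S ∧ ∃ g, IsNamed g S ∧ HasChar p g := by
  have hH : HAt p f c₀ B ∧ 5 ≤ c₀ ∧ c₀ ≠ 6 := by
    simp only [List.mem_cons, List.not_mem_nil, or_false] at hc₀
    rcases hc₀ with rfl | rfl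
    · exact ⟨h1, by have := ht.ok.e7; omega, ht.ok.ne6⟩
    · exact ⟨h2, by have := ht.ok.e7'; omega, ht.ok.ne6'⟩
  obtain ⟨r₀, hr₀, hr₀B⟩ := hH.1.exists_prim hp.two_le hf hH.2.1 hH.2.2
  exact mainR tb hcyc hcfsg haut ht hp hf hq hrep hdT hbig h1 h2 hsep hex
    (redK hcyc hp hf hrep hbig hc₀ hr₀ (hpiso r₀ (prim_q hf hr₀)) hr₀B fun t ht1 htp htc htB =>
      hgood t ht1 htp (htc _ (by simp)) (htc _ (by simp)) htB) hexc

end main

/-! ### the sizes of the class parts -/

theorem g8 : gchk 78 8 30 4 3 [(3, 1, 41)] = true := by decide +kernel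
theorem g9 : gchk 78 9 10 6 3 [(2, 2, 19), (3, 2, 37)] = true := by decide +kernel
theorem g12 : gchk 78 12 30 4 3 [(3, 1, 73)] = true := by decide +kernel
theorem g18 : gchk 78 18 10 6 3 [(3, 1, 37)] = true := by decide +kernel


/-! ### tools -/

section tools

variable {p f : ℕ}

theorem ne_one {c t : ℕ} (h : Prim (p ^ f) c t) (hn : ¬ Prim p (f * c) t) : f ≠ 1 := by
  rintro rfl
  rw [pow_one] at h
  rw [one_mul] at hn
  exact hn h

theorem not_ph {q t c e : ℕ} (hq : 1 ≤ q) (h : Prim q c t) (he : Cls e) (hc : ¬ c ∣ e) : ¬ t ∣ Ph e q := fun h1 =>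
  hc ((h.dvd_iff e).1 (h1.trans (Ph_dvd he hq)))

theorem sq_add_dvd {q : ℕ} (hq : 1 ≤ q) : q ^ 2 + q + 1 ∣ q ^ 3 - 1 := by
  refine ⟨q - 1, ?_⟩
  obtain ⟨k, rfl⟩ := Nat.exists_eq_add_of_le' hq
  rw [Nat.add_sub_cancel]
  have : (k + 1) ^ 3 = ((k + 1) ^ 2 + (k + 1) + 1) * k + 1 := by ring
  omega

theorem sq_sub_dvd {q : ℕ} (hq : 1 ≤ q) : q ^ 2 - q + 1 ∣ q ^ 6 - 1 := by
  obtain ⟨k, rfl⟩ := Nat.exists_eq_add_of_le' hq
  have h0 : (k + 1) ^ 2 - (k + 1) + 1 = k * (k + 1) + 1 := by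
    have : (k + 1) ^ 2 = k * (k + 1) + (k + 1) := by ring
    omega
  rw [h0]
  refine ⟨(k + 2) * (((k + 1) ^ 3) - 1), ?_⟩
  have h1 : 1 ≤ (k + 1) ^ 3 := Nat.one_le_pow _ _ (by omega)
  obtain ⟨m, hm⟩ := Nat.exists_eq_add_of_le' h1
  have h2 : (k + 1) ^ 6 = (m + 1) ^ 2 := by rw [← hm]; ring
  have h3 : (k * (k + 1) + 1) * (k + 2) = m + 2 := by
    have : (k * (k + 1) + 1) * (k + 2) = (k + 1) ^ 3 + 1 := by ring
    omega
  rw [h2, hm, Nat.add_sub_cancel, ← mul_assoc, h3]
  have : (m + 1) ^ 2 = (m + 2) * m + 1 := by ring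
  omega

theorem not_m12 {q t c : ℕ} (hq : 1 ≤ q) (h : Prim q c t) (hc : ¬ c ∣ 12) : ¬ t ∣ Ph 12 q * (q ^ 2 + q + 1) := by
  intro h1
  rcases h.prime.dvd_mul.1 h1 with h2 | h2
  · exact not_ph hq h (by unfold Cls; omega) hc h2
  · exact hc (((h.dvd_iff 3).1 (h2.trans (sq_add_dvd hq))).trans (by norm_num))

theorem not_m12' {q t c : ℕ} (hq : 1 ≤ q) (h : Prim q c t) (hc : ¬ c ∣ 12) : ¬ t ∣ Ph 12 q * (q ^ 2 - q + 1) := by
  intro h1
  rcases h.prime.dvd_mul.1 h1 with h2 | h2
  · exact not_ph hq h (by unfold Cls; omega) hc h2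
  · exact hc (((h.dvd_iff 6).1 (h2.trans (sq_sub_dvd hq))).trans (by norm_num))

theorem not_m8 {q t c : ℕ} (hq : 1 ≤ q) (h : Prim q c t) (hc : ¬ c ∣ 8) : ¬ t ∣ Ph 8 q * (q ^ 2 - 1) := by
  intro h1
  rcases h.prime.dvd_mul.1 h1 with h2 | h2
  · exact not_ph hq h (by unfold Cls; omega) hc h2
  · exact hc (((h.dvd_iff 2).1 h2).trans (by norm_num))

/-- freeness from the centralisers -/
theorem freeH_of {G : Type*} [Group G] [Finite G] {c t : ℕ} (hp : 2 ≤ p) (hf : 1 ≤ f) (hc : 5 ≤ c) (ht : t.Prime)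
    (h : ∀ r, Prim (p ^ f) c r → ∀ x : G, orderOf x = r → ¬ t ∣ Nat.card ↥(Subgroup.centralizer ({x} : Set G))) :
    Free G t (Nat.gcd (Nat.card G) (PP p (f * c))) := by
  intro x hx hxm a ha hcx
  have hfc : 1 * c ≤ f * c := Nat.mul_le_mul_right _ hf
  have h0 := prim_of_dvd_PP hp (by omega) hx (hxm.trans (Nat.gcd_dvd_right _ _))
  have h1 := h _ (prim_q hf h0) x rfl
  have h2 : a ∈ Subgroup.centralizer ({x} : Set G) := Subgroup.mem_centralizer_singleton_iff.2 hcx.symm
  have h3 : orderOf a ∣ Nat.card ↥(Subgroup.centralizer ({x} : Set G)) := by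
    have h4 : orderOf (⟨a, h2⟩ : ↥(Subgroup.centralizer ({x} : Set G))) = orderOf a := by
      rw [← Subgroup.orderOf_coe]
    rw [← h4]
    exact orderOf_dvd_natCard _
  rcases (Nat.dvd_prime ht).1 (orderOf_dvd_of_pow_eq_one ha) with h5 | h5
  · rwa [orderOf_eq_one_iff] at h5
  · rw [h5] at h3
    exact absurd h3 h1

/-- a class with a prime primitive part -/
theorem dvd_of_half {k N d : ℕ} (hp : 2 ≤ p) (hk : 3 ≤ k) (h6 : ¬ (p = 2 ∧ k = 6)) (h : PP p k ≤ (Nat.gcd N (PP p k)) ^ 2)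
    (hd : d.Prime) (hl : nl (fl k) = k) (e : pc p k = d) : d ∣ N := by
  have h1 := gcd_ne_one hp hk h6 h
  rw [PP_eq hl hp, e] at h1
  rcases (Nat.dvd_prime hd).1 (Nat.gcd_dvd_right N d) with h2 | h2
  · exact absurd h2 h1
  · rw [← h2]
    exact Nat.gcd_dvd_left _ _

/-- the number dividing the class part -/
theorem prim_of_dvd_pc {k t : ℕ} (hp : 2 ≤ p) (hk : 3 ≤ k) (ht : t.Prime) (hl : nl (fl k) = k) (h : t ∣ pc p k) : Prim p k t :=
  prim_of_dvd_PP hp hk ht (by rw [PP_eq hl hp]; exact h)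

/-- `O₇ = 1` in a group with elements of order `19`, `241` -/
theorem kill_seven {G : Type*} [Group G] [Finite G] (hd : ¬ 7 ^ 4 ∣ Nat.card G) (h19 : 19 ∣ Nat.card G)
    (hf : Free G 7 19) (h241 : 241 ∣ Nat.card G)
    (hc : ∀ x : G, orderOf x = 241 → Nat.card ↥(Subgroup.centralizer ({x} : Set G)) ∣ 5061) : KillB G 7 := by
  intro A hAn hAc hAt
  have hp19 : Nat.Prime 19 := by norm_num
  have hp241 : Nat.Prime 241 := by norm_num
  have hp7 : Nat.Prime 7 := by norm_num
  have := Fact.mk hp19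
  have := Fact.mk hp241
  have := Fact.mk hp7
  have hPt : IsPGroup 7 A := fun a => ⟨1, by rw [pow_one]; exact Subtype.ext (hAt a a.2)⟩
  obtain ⟨k, hk⟩ := IsPGroup.iff_card.1 hPt
  have hk4 : k < 4 := by
    by_contra hcon
    exact hd ((pow_dvd_pow 7 (by omega)).trans (hk ▸ Subgroup.card_subgroup_dvd_card A))
  obtain ⟨x, hx⟩ := exists_prime_orderOf_dvd_card' 19 h19
  obtain ⟨y, hy⟩ := exists_prime_orderOf_dvd_card' 241 h241
  have h4 := dvd_card_sub_one (A := A) hp19 hx fun a ha hc =>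
    hf x (by rw [hx]; exact hp19) (by rw [hx]) a (hAt a ha) hc
  have h1 := modEq_comm (A := A) hp241 hy
  have h2 : Nat.card {a : G // a ∈ A ∧ y * a = a * y} = Nat.card ↥(A ⊓ Subgroup.centralizer ({y} : Set G)) :=
    Nat.card_congr
      { toFun := fun a => ⟨a.1, a.2.1, Subgroup.mem_centralizer_singleton_iff.2 a.2.2.symm⟩
        invFun := fun a => ⟨a.1, a.2.1, (Subgroup.mem_centralizer_singleton_iff.1 a.2.2).symm⟩
        left_inv := fun a => rfl
        right_inv := fun a => rfl }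
  have h3 : Nat.card ↥(A ⊓ Subgroup.centralizer ({y} : Set G)) ∣ 7 ^ k := by
    rw [← hk]
    exact Subgroup.card_dvd_of_le inf_le_left
  have h5 : Nat.card ↥(A ⊓ Subgroup.centralizer ({y} : Set G)) ∣ 5061 :=
    (Subgroup.card_dvd_of_le inf_le_right).trans (hc y hy)
  rw [h2] at h1
  rw [hk] at h1 h4
  have h6 : Nat.card ↥(A ⊓ Subgroup.centralizer ({y} : Set G)) ∣ Nat.gcd (7 ^ k) 5061 := Nat.dvd_gcd h3 h5
  generalize Nat.card ↥(A ⊓ Subgroup.centralizer ({y} : Set G)) = c at h1 h6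
  interval_cases k
  · rw [pow_zero] at hk
    exact Subgroup.card_eq_one.1 hk
  · norm_num at h4
  · norm_num at h4
  · exfalso
    have h7 : c ∣ 7 := h6
    have h8 : c ≤ 7 := Nat.le_of_dvd (by norm_num) h7
    interval_cases c <;> revert h1 <;> decide

end tools

/-! ### the theorems -/

section good

variable {p f : ℕ} {G : Type*} [Group G] [Finite G] {t : ℕ}

theorem mem_ex {a b c x y z : ℕ} (h : (a, b, c) ∈ [(x, y, z)]) : a = x ∧ b = y ∧ c = z := by
  simpa using h

/-- **`E₆(q)`, the classes 9, 12.** -/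
theorem good_e6_9_12 (hp : p.Prime) (hf : 1 ≤ f) (hq : 3 ≤ p ^ f) (h9 : Ord G (p ^ f) 9 (ncl 9 (p ^ f)))
    (h12 : Ord G (p ^ f) 12 (Ph 12 (p ^ f) * ((p ^ f) ^ 2 + p ^ f + 1))) (hd : Nat.card G ∣ OL .E6 (p ^ f))
    (g9' : PP p (f * 9) ≤ (Nat.gcd (Nat.card G) (PP p (f * 9))) ^ 2)
    (g12' : PP p (f * 12) ≤ (Nat.gcd (Nat.card G) (PP p (f * 12))) ^ 2)
    (ht : t.Prime) (n9 : ¬ Prim p (f * 9) t) (n12 : ¬ Prim p (f * 12) t) : Good G 78 t ∨ KillB G t := by
  have hp2 := hp.two_le
  have hq1 : 1 ≤ p ^ f := by omega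
  have c9 : Cls 9 := by unfold Cls; omega
  have c12 : Cls 12 := by unfold Cls; omega
  by_cases ht9 : t ∣ ncl 9 (p ^ f)
  · left
    have hP := prim_of_dvd c9 hq1 ht ht9
    rcases half_gt (c := 12) hp hf hq (by norm_num) (by norm_num) (by decide +kernel) (by norm_num) (by norm_num) g12 g12'
      with h | h
    · exact good_gt h12 hp2 hf (by norm_num) ht (not_m12 hq1 hP (by norm_num)) h
    · exact absurd (mem_ex h).2.1 (ne_one hP n9)
  · rcases half_gt (c := 9) hp hf hq (by norm_num) (by norm_num) (by decide +kernel) (by norm_num) (by norm_num) g9 g9'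
      with h | h
    · exact Or.inl (good_gt h9 hp2 hf (by norm_num) ht ht9 h)
    · by_cases ht12 : t ∣ Ph 12 (p ^ f) * ((p ^ f) ^ 2 + p ^ f + 1)
      · simp only [List.mem_cons, List.not_mem_nil, or_false, Prod.mk.injEq] at h
        rcases h with ⟨rfl, rfl, h⟩ | ⟨rfl, rfl, h⟩
        · have e1 : Ph 12 (2 ^ 2) * ((2 ^ 2) ^ 2 + 2 ^ 2 + 1) = 5061 := by decide +kernel
          rw [e1] at ht12 h12
          have e2 : 5061 = (([(3, 1), (7, 1), (241, 1)] : List (ℕ × ℕ)).map fun x => x.1 ^ x.2).prod := by decide +kernel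
          rw [e2] at ht12
          obtain ⟨y, hy, hty⟩ := prime_mem ht _ (by
            intro x hx
            simp only [List.mem_cons, List.not_mem_nil, or_false] at hx
            rcases hx with rfl | rfl | rfl <;> norm_num) ht12
          simp only [List.mem_cons, List.not_mem_nil, or_false] at hy
          rcases hy with rfl | rfl | rfl <;> (simp only at hty; subst hty)
          · left
            refine good_prH h9 hp2 hf (by norm_num) ht ht9 h (by norm_num) fun k hk hkG => ?_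
            have h2 : k ≤ 10 := pow_bound (M := OL .E6 (2 ^ 2)) (by decide +kernel) (hkG.trans hd)
            interval_cases k <;> norm_num
          · right
            refine kill_seven (fun h => ?_) ?_ ?_ ?_ ?_
            · have h8 : ¬ 7 ^ 4 ∣ OL .E6 (2 ^ 2) := by decide +kernel
              exact h8 (h.trans hd)
            · rw [← h]; exact Nat.gcd_dvd_left _ _
            · rw [← h]; exact free_gcd h9 hp2 hf (by norm_num) ht ht9
            · exact dvd_of_half hp2 (by norm_num) (by norm_num) g12' (by norm_num) (by decide +kernel) (by decide +kernel)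
            · intro x hx
              exact h12 241 (prim_of_dvd c12 hq1 (by norm_num) (by decide +kernel)) x hx
          · exact absurd (prim_of_dvd_pc hp2 (by norm_num) ht (by decide +kernel) (by decide +kernel)) n12
        · left
          have e1 : Ph 12 (3 ^ 2) * ((3 ^ 2) ^ 2 + 3 ^ 2 + 1) = 589771 := by decide +kernel
          rw [e1] at ht12 h12
          have e2 : 589771 = (([(7, 1), (13, 1), (6481, 1)] : List (ℕ × ℕ)).map fun x => x.1 ^ x.2).prod := by decide +kernel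
          rw [e2] at ht12
          obtain ⟨y, hy, hty⟩ := prime_mem ht _ (by
            intro x hx
            simp only [List.mem_cons, List.not_mem_nil, or_false] at hx
            rcases hx with rfl | rfl | rfl <;> norm_num) ht12
          simp only [List.mem_cons, List.not_mem_nil, or_false] at hy
          rcases hy with rfl | rfl | rfl <;> (simp only at hty; subst hty)
          · refine good_prH h9 hp2 hf (by norm_num) ht ht9 h (by norm_num) fun k hk hkG => ?_
            have h2 : k ≤ 3 := pow_bound (M := OL .E6 (3 ^ 2)) (by decide +kernel) (hkG.trans hd)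
            interval_cases k <;> norm_num
          · refine good_prH h9 hp2 hf (by norm_num) ht ht9 h (by norm_num) fun k hk hkG => ?_
            have h2 : k ≤ 3 := pow_bound (M := OL .E6 (3 ^ 2)) (by decide +kernel) (hkG.trans hd)
            interval_cases k <;> norm_num
          · exact absurd (prim_of_dvd_pc hp2 (by norm_num) ht (by decide +kernel) (by decide +kernel)) n12
      · left
        refine good_prod h9 h12 hp2 hf (by norm_num) (by norm_num) (by norm_num) ht ht9 ht12 ?_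
        have h3 := (gcd_lb hp2 hf (by norm_num) (by norm_num) g12').1
        have h4 : 19 ≤ Nat.gcd (Nat.card G) (PP p (f * 9)) := by
          simp only [List.mem_cons, List.not_mem_nil, or_false, Prod.mk.injEq] at h
          omega
        have := Nat.mul_le_mul h4 h3
        omega

/-- **`E₆(q)`, the classes 9, 8.** -/
theorem good_e6_9_8 (hp : p.Prime) (hf : 1 ≤ f) (hq : 3 ≤ p ^ f) (h9 : Ord G (p ^ f) 9 (ncl 9 (p ^ f)))
    (h8 : Ord G (p ^ f) 8 (Ph 8 (p ^ f) * ((p ^ f) ^ 2 - 1))) (hd : Nat.card G ∣ OL .E6 (p ^ f))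
    (g9' : PP p (f * 9) ≤ (Nat.gcd (Nat.card G) (PP p (f * 9))) ^ 2)
    (g8' : PP p (f * 8) ≤ (Nat.gcd (Nat.card G) (PP p (f * 8))) ^ 2)
    (ht : t.Prime) (n9 : ¬ Prim p (f * 9) t) (n8 : ¬ Prim p (f * 8) t) : Good G 78 t ∨ KillB G t := by
  left
  have hp2 := hp.two_le
  have hq1 : 1 ≤ p ^ f := by omega
  have c9 : Cls 9 := by unfold Cls; omega
  by_cases ht9 : t ∣ ncl 9 (p ^ f)
  · have hP := prim_of_dvd c9 hq1 ht ht9
    rcases half_gt (c := 8) hp hf hq (by norm_num) (by norm_num) (by decide +kernel) (by norm_num) (by norm_num) g8 g8'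
      with h | h
    · exact good_gt h8 hp2 hf (by norm_num) ht (not_m8 hq1 hP (by norm_num)) h
    · exact absurd (mem_ex h).2.1 (ne_one hP n9)
  · rcases half_gt (c := 9) hp hf hq (by norm_num) (by norm_num) (by decide +kernel) (by norm_num) (by norm_num) g9 g9'
      with h | h
    · exact good_gt h9 hp2 hf (by norm_num) ht ht9 h
    · by_cases ht8 : t ∣ Ph 8 (p ^ f) * ((p ^ f) ^ 2 - 1)
      · simp only [List.mem_cons, List.not_mem_nil, or_false, Prod.mk.injEq] at h
        rcases h with ⟨rfl, rfl, h⟩ | ⟨rfl, rfl, h⟩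
        · have e1 : Ph 8 (2 ^ 2) * ((2 ^ 2) ^ 2 - 1) =
            (([(3, 1), (5, 1), (257, 1)] : List (ℕ × ℕ)).map fun x => x.1 ^ x.2).prod := by decide +kernel
          rw [e1] at ht8
          obtain ⟨y, hy, hty⟩ := prime_mem ht _ (by
            intro x hx
            simp only [List.mem_cons, List.not_mem_nil, or_false] at hx
            rcases hx with rfl | rfl | rfl <;> norm_num) ht8
          simp only [List.mem_cons, List.not_mem_nil, or_false] at hy
          rcases hy with rfl | rfl | rfl <;> (simp only at hty; subst hty)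
          · refine good_prH h9 hp2 hf (by norm_num) ht ht9 h (by norm_num) fun k hk hkG => ?_
            have h2 : k ≤ 10 := pow_bound (M := OL .E6 (2 ^ 2)) (by decide +kernel) (hkG.trans hd)
            interval_cases k <;> norm_num
          · refine good_prH h9 hp2 hf (by norm_num) ht ht9 h (by norm_num) fun k hk hkG => ?_
            have h2 : k ≤ 5 := pow_bound (M := OL .E6 (2 ^ 2)) (by decide +kernel) (hkG.trans hd)
            interval_cases k <;> norm_num
          · exact absurd (prim_of_dvd_pc hp2 (by norm_num) ht (by decide +kernel) (by decide +kernel)) n8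
        · have e1 : Ph 8 (3 ^ 2) * ((3 ^ 2) ^ 2 - 1) =
            (([(2, 5), (5, 1), (17, 1), (193, 1)] : List (ℕ × ℕ)).map fun x => x.1 ^ x.2).prod := by decide +kernel
          rw [e1] at ht8
          obtain ⟨y, hy, hty⟩ := prime_mem ht _ (by
            intro x hx
            simp only [List.mem_cons, List.not_mem_nil, or_false] at hx
            rcases hx with rfl | rfl | rfl | rfl <;> norm_num) ht8
          simp only [List.mem_cons, List.not_mem_nil, or_false] at hy
          rcases hy with rfl | rfl | rfl | rfl <;> (simp only at hty; subst hty)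
          · refine good_prH h9 hp2 hf (by norm_num) ht ht9 h (by norm_num) fun k hk hkG => ?_
            have h2 : k ≤ 30 := pow_bound (M := OL .E6 (3 ^ 2)) (by decide +kernel) (hkG.trans hd)
            interval_cases k <;> norm_num
          · refine good_prH h9 hp2 hf (by norm_num) ht ht9 h (by norm_num) fun k hk hkG => ?_
            have h2 : k ≤ 5 := pow_bound (M := OL .E6 (3 ^ 2)) (by decide +kernel) (hkG.trans hd)
            interval_cases k <;> norm_num
          · exact absurd (prim_of_dvd_pc hp2 (by norm_num) ht (by decide +kernel) (by decide +kernel)) n8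
          · exact absurd (prim_of_dvd_pc hp2 (by norm_num) ht (by decide +kernel) (by decide +kernel)) n8
      · refine good_prod h9 h8 hp2 hf (by norm_num) (by norm_num) (by norm_num) ht ht9 ht8 ?_
        have h3 := (gcd_lb hp2 hf (by norm_num) (by norm_num) g8').1
        have h4 : 19 ≤ Nat.gcd (Nat.card G) (PP p (f * 9)) := by
          simp only [List.mem_cons, List.not_mem_nil, or_false, Prod.mk.injEq] at h
          omega
        have := Nat.mul_le_mul h4 h3
        omega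

/-- **`²E₆(q)`, the classes 18, 12.** -/
theorem good_te6_18_12 (hp : p.Prime) (hf : 1 ≤ f) (hq : 3 ≤ p ^ f) (h18 : Ord G (p ^ f) 18 (ncl 18 (p ^ f)))
    (h12 : Ord G (p ^ f) 12 (Ph 12 (p ^ f) * ((p ^ f) ^ 2 - p ^ f + 1))) (hd : Nat.card G ∣ OL .TE6 (p ^ f))
    (g18' : PP p (f * 18) ≤ (Nat.gcd (Nat.card G) (PP p (f * 18))) ^ 2)
    (g12' : PP p (f * 12) ≤ (Nat.gcd (Nat.card G) (PP p (f * 12))) ^ 2)
    (ht : t.Prime) (n18 : ¬ Prim p (f * 18) t) (n12 : ¬ Prim p (f * 12) t) : Good G 78 t ∨ KillB G t := by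
  left
  have hp2 := hp.two_le
  have hq1 : 1 ≤ p ^ f := by omega
  have c18 : Cls 18 := by unfold Cls; omega
  by_cases ht18 : t ∣ ncl 18 (p ^ f)
  · have hP := prim_of_dvd c18 hq1 ht ht18
    rcases half_gt (c := 12) hp hf hq (by norm_num) (by norm_num) (by decide +kernel) (by norm_num) (by norm_num) g12 g12'
      with h | h
    · exact good_gt h12 hp2 hf (by norm_num) ht (not_m12' hq1 hP (by norm_num)) h
    · exact absurd (mem_ex h).2.1 (ne_one hP n18)
  · rcases half_gt (c := 18) hp hf hq (by norm_num) (by norm_num) (by decide +kernel) (by norm_num) (by norm_num) g18 g18'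
      with h | h
    · exact good_gt h18 hp2 hf (by norm_num) ht ht18 h
    · obtain ⟨rfl, rfl, h⟩ := mem_ex h
      by_cases ht12 : t ∣ Ph 12 (3 ^ 1) * ((3 ^ 1) ^ 2 - 3 ^ 1 + 1)
      · have e1 : Ph 12 (3 ^ 1) * ((3 ^ 1) ^ 2 - 3 ^ 1 + 1) =
          (([(7, 1), (73, 1)] : List (ℕ × ℕ)).map fun x => x.1 ^ x.2).prod := by decide +kernel
        rw [e1] at ht12
        obtain ⟨y, hy, hty⟩ := prime_mem ht _ (by
          intro x hx
          simp only [List.mem_cons, List.not_mem_nil, or_false] at hx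
          rcases hx with rfl | rfl <;> norm_num) ht12
        simp only [List.mem_cons, List.not_mem_nil, or_false] at hy
        rcases hy with rfl | rfl <;> (simp only at hty; subst hty)
        · refine good_prH h18 hp2 hf (by norm_num) ht ht18 h (by norm_num) fun k hk hkG => ?_
          have h2 : k ≤ 3 := pow_bound (M := OL .TE6 (3 ^ 1)) (by decide +kernel) (hkG.trans hd)
          interval_cases k <;> norm_num
        · exact absurd (prim_of_dvd_pc hp2 (by norm_num) ht (by decide +kernel) (by decide +kernel)) n12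
      · refine good_prod h18 h12 hp2 hf (by norm_num) (by norm_num) (by norm_num) ht ht18 ht12 ?_
        have h3 := (gcd_lb hp2 hf (by norm_num) (by norm_num) g12').1
        rw [h]
        have := Nat.mul_le_mul_left 37 h3
        omega

/-- **`²E₆(q)`, the classes 18, 8.** -/
theorem good_te6_18_8 (hp : p.Prime) (hf : 1 ≤ f) (hq : 3 ≤ p ^ f) (h18 : Ord G (p ^ f) 18 (ncl 18 (p ^ f)))
    (h8 : Ord G (p ^ f) 8 (Ph 8 (p ^ f) * ((p ^ f) ^ 2 - 1))) (hd : Nat.card G ∣ OL .TE6 (p ^ f))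
    (g18' : PP p (f * 18) ≤ (Nat.gcd (Nat.card G) (PP p (f * 18))) ^ 2)
    (g8' : PP p (f * 8) ≤ (Nat.gcd (Nat.card G) (PP p (f * 8))) ^ 2)
    (ht : t.Prime) (n18 : ¬ Prim p (f * 18) t) (n8 : ¬ Prim p (f * 8) t) : Good G 78 t ∨ KillB G t := by
  left
  have hp2 := hp.two_le
  have hq1 : 1 ≤ p ^ f := by omega
  have c18 : Cls 18 := by unfold Cls; omega
  by_cases ht18 : t ∣ ncl 18 (p ^ f)
  · have hP := prim_of_dvd c18 hq1 ht ht18
    rcases half_gt (c := 8) hp hf hq (by norm_num) (by norm_num) (by decide +kernel) (by norm_num) (by norm_num) g8 g8'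
      with h | h
    · exact good_gt h8 hp2 hf (by norm_num) ht (not_m8 hq1 hP (by norm_num)) h
    · exact absurd (mem_ex h).2.1 (ne_one hP n18)
  · rcases half_gt (c := 18) hp hf hq (by norm_num) (by norm_num) (by decide +kernel) (by norm_num) (by norm_num) g18 g18'
      with h | h
    · exact good_gt h18 hp2 hf (by norm_num) ht ht18 h
    · obtain ⟨rfl, rfl, h⟩ := mem_ex h
      by_cases ht8 : t ∣ Ph 8 (3 ^ 1) * ((3 ^ 1) ^ 2 - 1)
      · have e1 : Ph 8 (3 ^ 1) * ((3 ^ 1) ^ 2 - 1) =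
          (([(2, 4), (41, 1)] : List (ℕ × ℕ)).map fun x => x.1 ^ x.2).prod := by decide +kernel
        rw [e1] at ht8
        obtain ⟨y, hy, hty⟩ := prime_mem ht _ (by
          intro x hx
          simp only [List.mem_cons, List.not_mem_nil, or_false] at hx
          rcases hx with rfl | rfl <;> norm_num) ht8
        simp only [List.mem_cons, List.not_mem_nil, or_false] at hy
        rcases hy with rfl | rfl <;> (simp only at hty; subst hty)
        · refine good_prH h18 hp2 hf (by norm_num) ht ht18 h (by norm_num) fun k hk hkG => ?_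
          have h2 : k ≤ 30 := pow_bound (M := OL .TE6 (3 ^ 1)) (by decide +kernel) (hkG.trans hd)
          interval_cases k <;> norm_num
        · exact absurd (prim_of_dvd_pc hp2 (by norm_num) ht (by decide +kernel) (by decide +kernel)) n8
      · refine good_prod h18 h8 hp2 hf (by norm_num) (by norm_num) (by norm_num) ht ht18 ht8 ?_
        have h3 := (gcd_lb hp2 hf (by norm_num) (by norm_num) g8').1
        rw [h]
        have := Nat.mul_le_mul_left 37 h3
        omega

/-- **`E₆(q)`, the classes 8, 12.** -/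
theorem good_e6_8_12 (hp : p.Prime) (hf : 1 ≤ f) (hq : 3 ≤ p ^ f)
    (h8 : Ord G (p ^ f) 8 (Ph 8 (p ^ f) * ((p ^ f) ^ 2 - 1)))
    (hcyc : ∀ r, Prim (p ^ f) 8 r → ∀ x : G, orderOf x = r → IsCyclic ↥(Subgroup.centralizer ({x} : Set G)))
    (h12 : Ord G (p ^ f) 12 (Ph 12 (p ^ f) * ((p ^ f) ^ 2 + p ^ f + 1)))
    (h3x : 3 ∣ p ^ f - 1 → ∀ r, Prim (p ^ f) 12 r → ∀ x : G, orderOf x = r →
      ¬ 3 ∣ Nat.card ↥(Subgroup.centralizer ({x} : Set G)))
    (hd : Nat.card G ∣ OL .E6 (p ^ f))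
    (g8' : PP p (f * 8) ≤ (Nat.gcd (Nat.card G) (PP p (f * 8))) ^ 2)
    (g12' : PP p (f * 12) ≤ (Nat.gcd (Nat.card G) (PP p (f * 12))) ^ 2)
    (ht : t.Prime) (htp : t ≠ p) (n8 : ¬ Prim p (f * 8) t) (n12 : ¬ Prim p (f * 12) t) (htG : t ∣ Nat.card G) :
    Good G 78 t ∨ KillB G t := by
  have hp2 := hp.two_le
  have hq1 : 1 ≤ p ^ f := by omega
  have c12 : Cls 12 := by unfold Cls; omega
  rcases half_gt (c := 12) hp hf hq (by norm_num) (by norm_num) (by decide +kernel) (by norm_num) (by norm_num) g12 g12'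
    with k12 | k12
  · rcases half_gt (c := 8) hp hf hq (by norm_num) (by norm_num) (by decide +kernel) (by norm_num) (by norm_num) g8 g8'
      with k8 | k8
    · left
      by_cases hA : t ∣ (p ^ f) ^ 2 + p ^ f + 1
      · by_cases h3 : t = 3
        · subst h3
          have h4 : 3 ∣ p ^ f - 1 := by
            have h5 : ((p ^ f : ℕ) : ZMod 3) = 1 := by
              rw [← ZMod.natCast_eq_zero_iff] at hA
              have hA' : ((p ^ f : ℕ) : ZMod 3) ^ 2 + ((p ^ f : ℕ) : ZMod 3) + 1 = 0 := by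
                rw [← hA]; push_cast; ring
              generalize ((p ^ f : ℕ) : ZMod 3) = x at hA' ⊢
              revert x; decide
            rw [← ZMod.natCast_eq_zero_iff, Nat.cast_sub hq1, h5, Nat.cast_one, sub_self]
          exact ⟨_, Nat.gcd_dvd_left _ _, freeH_of hp2 hf (by norm_num) ht (h3x h4), Or.inl k12⟩
        · refine good_gt h8 hp2 hf (by norm_num) ht (not8_plus (by omega) ht h3 hA fun h => ?_) k8
          have h4 := (h.dvd_iff 3).1 (hA.trans (sq_add_dvd hq1))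
          exact absurd h4 (by norm_num)
      · by_cases hB : t ∣ Ph 12 (p ^ f)
        · have hP := prim_of_dvd c12 hq1 ht (by rw [ncl12_eq]; exact hB)
          exact good_gt h8 hp2 hf (by norm_num) ht (not_m8 hq1 hP (by norm_num)) k8
        · refine good_gt h12 hp2 hf (by norm_num) ht (fun h => ?_) k12
          rcases ht.dvd_mul.1 h with h | h
          · exact hB h
          · exact hA h
    · obtain ⟨rfl, rfl, -⟩ := mem_ex k8
      exfalso
      rw [PP_eq (by decide +kernel) hp2] at k12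
      have h1 : Nat.gcd (Nat.card G) (pc 3 (1 * 12)) ≤ pc 3 (1 * 12) := Nat.gcd_le_right _ (by decide +kernel)
      have h2 : pc 3 (1 * 12) = 73 := by decide +kernel
      omega
  · obtain ⟨rfl, rfl, -⟩ := mem_ex k12
    have d73 : ncl 12 3 ∣ Nat.card G := by
      rw [show ncl 12 3 = 73 by decide +kernel]
      exact dvd_of_half hp2 (by norm_num) (by norm_num) g12' (by norm_num) (by decide +kernel) (by decide +kernel)
    have d41 : ncl 8 3 ∣ Nat.card G := by
      rw [show ncl 8 3 = 41 by decide +kernel]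
      exact dvd_of_half hp2 (by norm_num) (by norm_num) g8' (by norm_num) (by decide +kernel) (by decide +kernel)
    rw [one_mul] at n8 n12
    rw [pow_one] at h8 h12 hd h3x hcyc
    exact Cfsg.Agent.H190.Cov.good_e6c3 le_rfl le_rfl h12 h3x h8 hcyc hd d73 d41 ht
      (fun h => htp ((Nat.prime_dvd_prime_iff_eq ht Nat.prime_three).1 h)) n12 n8 htG

/-- **`²E₆(q)`, the classes 8, 12.** -/
theorem good_te6_8_12 (hp : p.Prime) (hf : 1 ≤ f) (hq : 3 ≤ p ^ f)
    (h8 : Ord G (p ^ f) 8 (Ph 8 (p ^ f) * ((p ^ f) ^ 2 - 1)))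
    (hcyc : ∀ r, Prim (p ^ f) 8 r → ∀ x : G, orderOf x = r → IsCyclic ↥(Subgroup.centralizer ({x} : Set G)))
    (h12 : Ord G (p ^ f) 12 (Ph 12 (p ^ f) * ((p ^ f) ^ 2 - p ^ f + 1)))
    (h3x : 3 ∣ p ^ f + 1 → ∀ r, Prim (p ^ f) 12 r → ∀ x : G, orderOf x = r →
      ¬ 3 ∣ Nat.card ↥(Subgroup.centralizer ({x} : Set G)))
    (hd : Nat.card G ∣ OL .TE6 (p ^ f))
    (g8' : PP p (f * 8) ≤ (Nat.gcd (Nat.card G) (PP p (f * 8))) ^ 2)
    (g12' : PP p (f * 12) ≤ (Nat.gcd (Nat.card G) (PP p (f * 12))) ^ 2)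
    (ht : t.Prime) (htp : t ≠ p) (n8 : ¬ Prim p (f * 8) t) (n12 : ¬ Prim p (f * 12) t) (htG : t ∣ Nat.card G) :
    Good G 78 t ∨ KillB G t := by
  have hp2 := hp.two_le
  have hq1 : 1 ≤ p ^ f := by omega
  have hle : p ^ f ≤ (p ^ f) ^ 2 := Nat.le_self_pow (by norm_num) _
  have c12 : Cls 12 := by unfold Cls; omega
  rcases half_gt (c := 12) hp hf hq (by norm_num) (by norm_num) (by decide +kernel) (by norm_num) (by norm_num) g12 g12'
    with k12 | k12
  · rcases half_gt (c := 8) hp hf hq (by norm_num) (by norm_num) (by decide +kernel) (by norm_num) (by norm_num) g8 g8'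
      with k8 | k8
    · left
      by_cases hA : t ∣ (p ^ f) ^ 2 - p ^ f + 1
      · by_cases h3 : t = 3
        · subst h3
          have h4 : 3 ∣ p ^ f + 1 := by
            rw [← ZMod.natCast_eq_zero_iff] at hA ⊢
            have hA' : ((p ^ f : ℕ) : ZMod 3) ^ 2 - ((p ^ f : ℕ) : ZMod 3) + 1 = 0 := by
              rw [← hA, Nat.cast_add, Nat.cast_sub hle]; push_cast; ring
            rw [Nat.cast_add, Nat.cast_one]
            generalize ((p ^ f : ℕ) : ZMod 3) = x at hA' ⊢
            revert x; decide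
          exact ⟨_, Nat.gcd_dvd_left _ _, freeH_of hp2 hf (by norm_num) ht (h3x h4), Or.inl k12⟩
        · refine good_gt h8 hp2 hf (by norm_num) ht (not8_minus (by omega) ht h3 hA fun h => ?_) k8
          have h4 := (h.dvd_iff 6).1 (hA.trans (sq_sub_dvd hq1))
          exact absurd h4 (by norm_num)
      · by_cases hB : t ∣ Ph 12 (p ^ f)
        · have hP := prim_of_dvd c12 hq1 ht (by rw [ncl12_eq]; exact hB)
          exact good_gt h8 hp2 hf (by norm_num) ht (not_m8 hq1 hP (by norm_num)) k8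
        · refine good_gt h12 hp2 hf (by norm_num) ht (fun h => ?_) k12
          rcases ht.dvd_mul.1 h with h | h
          · exact hB h
          · exact hA h
    · obtain ⟨rfl, rfl, -⟩ := mem_ex k8
      exfalso
      rw [PP_eq (by decide +kernel) hp2] at k12
      have h1 : Nat.gcd (Nat.card G) (pc 3 (1 * 12)) ≤ pc 3 (1 * 12) := Nat.gcd_le_right _ (by decide +kernel)
      have h2 : pc 3 (1 * 12) = 73 := by decide +kernel
      omega
  · obtain ⟨rfl, rfl, -⟩ := mem_ex k12
    have d73 : ncl 12 3 ∣ Nat.card G := by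
      rw [show ncl 12 3 = 73 by decide +kernel]
      exact dvd_of_half hp2 (by norm_num) (by norm_num) g12' (by norm_num) (by decide +kernel) (by decide +kernel)
    have d41 : ncl 8 3 ∣ Nat.card G := by
      rw [show ncl 8 3 = 41 by decide +kernel]
      exact dvd_of_half hp2 (by norm_num) (by norm_num) g8' (by norm_num) (by decide +kernel) (by decide +kernel)
    rw [one_mul] at n8 n12
    rw [pow_one] at h8 h12 hd h3x hcyc
    exact Cfsg.Agent.H190.Cov.good_te6c le_rfl le_rfl h12 h3x h8 hcyc hd d73 d41 ht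
      (fun h => htp ((Nat.prime_dvd_prime_iff_eq ht Nat.prime_three).1 h)) n12 n8 htG

end good

end Cfsg.Agent.H70.Rg
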