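import Cfsg.Agent.H70.Rg.GoodH6
import Cfsg.Agent.H851.Rg.KTE6

/-!
# Reducedness for half classes in `²E₆(q)`, `3 ≤ q` (helper70)

`redT_18_12`, `redT_18_8`, `redT_8_12` : the hypotheses `RedT` of `H851/Rg/KTE6.lean`.
-/

set_option autoImplicit false

namespace Cfsg.Agent.H70.Rg

open Cfsg Cfsg.Agent.OrdDiv Cfsg.Agent.H436 Cfsg.Agent.H902 Cfsg.Agent.H902.Names Cfsg.Agent.H915.GN
  Cfsg.Agent.H290.ElReg Cfsg.Agent.H290.ElTab Cfsg.Agent.H290.ElCross Cfsg.Agent.H264.FKS Cfsg.Agent.H56.Exc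
  Cfsg.Agent.H325.Loc Cfsg.Agent.H325.IsoExc Cfsg.Agent.H325.IsoFree Cfsg.Agent.H563.KG Cfsg.Agent.H73.Rg
  Cfsg.Agent.H190.Cov Cfsg.Agent.H190.Odd Cfsg.Agent.H851.Rg

section

variable {F : Type} [Field F] [Fintype F] {p f : ℕ}

theorem ordT18 (hp : p.Prime) (hf : 1 ≤ f) (hK : Fintype.card F = (p ^ f) ^ 2) :
    Ord ↥(Lie.twistedE6 F (p ^ f)) (p ^ f) 18 (ncl 18 (p ^ f)) := by
  intro r hr x hx
  rw [← ncl18_eq (Nat.one_le_pow _ _ hp.pos)]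
  exact (Cfsg.Agent.H190.Exc.te6_18 (hp.isPrimePow.pow (by omega)) hK hr).2 x hx

theorem ordT12 (hp : p.Prime) (hf : 1 ≤ f) (hK : Fintype.card F = (p ^ f) ^ 2) :
    Ord ↥(Lie.twistedE6 F (p ^ f)) (p ^ f) 12 (Ph 12 (p ^ f) * ((p ^ f) ^ 2 - p ^ f + 1)) :=
  fun _ hr x hx => (bigTE (c := 12) (by omega) hp hf hK hr).card x hx

theorem ordT8 (hp : p.Prime) (hf : 1 ≤ f) (hK : Fintype.card F = (p ^ f) ^ 2) :
    Ord ↥(Lie.twistedE6 F (p ^ f)) (p ^ f) 8 (Ph 8 (p ^ f) * ((p ^ f) ^ 2 - 1)) :=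
  fun _ hr x hx => (bigTE (c := 8) (by omega) hp hf hK hr).card x hx

/-- the frame -/
theorem redT_of (hcyc : CycFixSolv.{0}) (hp : p.Prime) (hf : 1 ≤ f) (hK : Fintype.card F = (p ^ f) ^ 2) {c c' : ℕ}
    (hm : ∀ e ∈ [c, c'], e = 18 ∨ e = 12 ∨ e = 8) {c₀ : ℕ} (hc₀ : c₀ ∈ [c, c']) (h₀ : c₀ = 12 ∨ c₀ = 18)
    (hg : ∀ B : Subgroup ↥(Lie.twistedE6 F (p ^ f)), HAt p f c B → HAt p f c' B → ∀ t : ℕ, t.Prime → t ≠ p →
      ¬ Prim p (f * c) t → ¬ Prim p (f * c') t → t ∣ Nat.card B → Good B 78 t ∨ KillB B t) : RedT F p f c c' := by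
  intro B h1 h2
  have := Fact.mk hp
  have := charP_te6 hp hf hK
  have hfin : Finite ↥(Lie.twistedE6 F (p ^ f)) := inferInstance
  have hH : HAt p f c₀ B := by
    simp only [List.mem_cons, List.not_mem_nil, or_false] at hc₀
    rcases hc₀ with rfl | rfl
    · exact h1
    · exact h2
  obtain ⟨r₀, hr₀, hr₀B⟩ := hH.exists_prim hp.two_le hf (by omega) (by omega)
  exact redK (n := 78) hcyc hp hf (F := F) (fth_TE6 _) (fun e he r hr => bigTE (hm e he) hp hf hK hr) hc₀ hr₀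
    (piso_twE6 (hp.isPrimePow.pow (by omega)) hK h₀ (prim_q hf hr₀)) hr₀B
    fun t ht htp htn htB => hg B h1 h2 t ht htp (htn c (by simp)) (htn c' (by simp)) htB

theorem redT_18_12 (tb : OrderTable.{0}) (hcyc : CycFixSolv.{0}) (hp : p.Prime) (hf : 1 ≤ f)
    (hK : Fintype.card F = (p ^ f) ^ 2) (hq3 : 3 ≤ p ^ f) : RedT F p f 18 12 :=
  redT_of hcyc hp hf hK (by decide) (c₀ := 18) (by simp) (Or.inr rfl) fun B h1 h2 t ht htp hn hn' htB => by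
    have hfin : Finite ↥(Lie.twistedE6 F (p ^ f)) := inferInstance
    exact good_te6_18_12 hp hf hq3 ((ordT18 hp hf hK).sub B) ((ordT12 hp hf hK).sub B)
      ((Subgroup.card_subgroup_dvd_card B).trans (card_te6_dvd tb hp hf hK)) h1.half h2.half ht hn hn'

theorem redT_18_8 (tb : OrderTable.{0}) (hcyc : CycFixSolv.{0}) (hp : p.Prime) (hf : 1 ≤ f)
    (hK : Fintype.card F = (p ^ f) ^ 2) (hq3 : 3 ≤ p ^ f) : RedT F p f 18 8 :=
  redT_of hcyc hp hf hK (by decide) (c₀ := 18) (by simp) (Or.inr rfl) fun B h1 h2 t ht htp hn hn' htB => by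
    have hfin : Finite ↥(Lie.twistedE6 F (p ^ f)) := inferInstance
    exact good_te6_18_8 hp hf hq3 ((ordT18 hp hf hK).sub B) ((ordT8 hp hf hK).sub B)
      ((Subgroup.card_subgroup_dvd_card B).trans (card_te6_dvd tb hp hf hK)) h1.half h2.half ht hn hn'

theorem redT_8_12 (tb : OrderTable.{0}) (hcyc : CycFixSolv.{0}) (hp : p.Prime) (hf : 1 ≤ f)
    (hK : Fintype.card F = (p ^ f) ^ 2) (hq3 : 3 ≤ p ^ f) : RedT F p f 8 12 :=
  redT_of hcyc hp hf hK (by decide) (c₀ := 12) (by simp) (Or.inl rfl) fun B h1 h2 t ht htp hn hn' htB => by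
    have hfin : Finite ↥(Lie.twistedE6 F (p ^ f)) := inferInstance
    refine good_te6_8_12 hp hf hq3 ((ordT8 hp hf hK).sub B) ?_ ((ordT12 hp hf hK).sub B) ?_
      ((Subgroup.card_subgroup_dvd_card B).trans (card_te6_dvd tb hp hf hK)) h1.half h2.half ht htp hn hn' htB
    · intro r hr x hx
      exact ((bigTE (c := 8) (by omega) hp hf hK hr).subgroup B).cyc x hx
    · intro h3 r hr x hx h
      exact (exact_te6_12 (hp.isPrimePow.pow (by omega)) hK h3 hr (x := (x : ↥(Lie.twistedE6 F (p ^ f))))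
        (by rw [Subgroup.orderOf_coe]; exact hx)).2 (h.trans (card_centralizer_sub B x))

/-- **the classes 18, 12** -/
theorem te6_18_12 (tb : OrderTable.{0}) (hcyc : CycFixSolv.{0}) (hcf : CF) (hp : p.Prime) (hf : 1 ≤ f)
    (hK : Fintype.card F = (p ^ f) ^ 2) (hq3 : 3 ≤ p ^ f)
    (B : Subgroup ↥(Lie.twistedE6 F (p ^ f))) (h : HOff p f [18, 12] B) : B = ⊤ :=
  k1T tb hcyc hcf hp hf hK hq3 (redT_18_12 tb hcyc hp hf hK hq3) B h

/-- **the classes 18, 8** -/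
theorem te6_18_8 (tb : OrderTable.{0}) (hcyc : CycFixSolv.{0}) (hcf : CF) (hp : p.Prime) (hf : 1 ≤ f)
    (hK : Fintype.card F = (p ^ f) ^ 2) (hq3 : 3 ≤ p ^ f)
    (B : Subgroup ↥(Lie.twistedE6 F (p ^ f))) (h : HOff p f [18, 8] B) : B = ⊤ :=
  k2T tb hcyc hcf hp hf hK hq3 (redT_18_8 tb hcyc hp hf hK hq3) B h

/-- **the classes 8, 12** -/
theorem te6_8_12 (tb : OrderTable.{0}) (hcyc : CycFixSolv.{0}) (hcf : CF) (hp : p.Prime) (hf : 1 ≤ f)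
    (hK : Fintype.card F = (p ^ f) ^ 2) (hq3 : 3 ≤ p ^ f)
    (B : Subgroup ↥(Lie.twistedE6 F (p ^ f))) (hne : B ≠ ⊤) (h : HOff p f [8, 12] B) :
    (∀ r, Prim (p ^ f) 18 r → ¬ r ∣ Nat.card B) ∧ ∀ r, Prim (p ^ f) 10 r → ¬ r ∣ Nat.card B :=
  k3T tb hcyc hcf hp hf hK hq3 (redT_8_12 tb hcyc hp hf hK hq3) B hne h

end

end Cfsg.Agent.H70.Rg
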