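import Cfsg.Agent.H193.Dg.Orth
import Cfsg.Agent.H370.Rg.Zsig
import Cfsg.Agent.S0293
import Cfsg.Agent.S0294

/-!
# S3691 (T6): large primes of the orthogonal groups (helper70)
-/

set_option autoImplicit false

namespace Cfsg.Agent.H70.Rg

open Module QuadraticMap Cfsg Cfsg.Geo Cfsg.Agent.LieClassical.OrthCore
  Cfsg.Agent.H955 Cfsg.Agent.H954.TSing Cfsg.Agent.H884.El Cfsg.Agent.H851.Dg Cfsg.Agent.H193.Dg
  Cfsg.Agent.LieClassical.OmegaReindex
open Cfsg.Agent.H951 (fx cm Inv)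
open scoped MatrixGroups Matrix

universe u v

/-! ### numbers -/

section num

variable {q k r : ℕ}

theorem not_dvd_gcd (h : PP q k r) (hk : 3 ≤ k) (x : ℕ) : ¬ r ∣ Nat.gcd 4 x := by
  intro h1
  have h2 : r ∣ 2 ^ 2 := h1.trans (Nat.gcd_dvd_left 4 x)
  have h3 := Nat.le_of_dvd (by norm_num) (h.prime.dvd_of_dvd_pow h2)
  have h4 := h.lt (by omega)
  omega

theorem fac_zero (h : PP q k r) (hq : 2 ≤ q) {i : ℕ} (hi : ¬ k ∣ i) : (q ^ i - 1).factorization r = 0 :=
  Nat.factorization_eq_zero_of_not_dvd fun h1 => hi ((h.dvd_iff (by omega) i).1 h1)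

theorem pow_sub_ne (hq : 2 ≤ q) {i : ℕ} (hi : i ≠ 0) : q ^ i - 1 ≠ 0 := by
  have := Nat.one_lt_pow hi (by omega : 1 < q)
  omega

theorem fac_prod_zero (h : PP q k r) (hq : 2 ≤ q) {n : ℕ} (hn : ∀ i, 1 ≤ i → i ≤ n → ¬ k ∣ 2 * i) :
    (∏ i ∈ Finset.range n, (q ^ (2 * (i + 1)) - 1)).factorization r = 0 := by
  rw [Nat.factorization_prod_apply fun i _ => pow_sub_ne hq (by omega)]
  refine Finset.sum_eq_zero fun i hi => fac_zero h hq (hn (i + 1) (by omega) ?_)
  rw [Finset.mem_range] at hi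
  omega

theorem fac_prod (h : PP q k r) (hq : 2 ≤ q) {n j : ℕ} (hk : k = 2 * j) (hj : 1 ≤ j) (hjn : j ≤ n) (hn : n < 2 * j) :
    (∏ i ∈ Finset.range n, (q ^ (2 * (i + 1)) - 1)).factorization r = (q ^ k - 1).factorization r := by
  rw [Nat.factorization_prod_apply fun i _ => pow_sub_ne hq (by omega)]
  rw [Finset.sum_eq_single (j - 1)]
  · rw [Nat.sub_add_cancel hj, hk]
  · intro i hi hij
    rw [Finset.mem_range] at hi
    refine fac_zero h hq ?_
    rw [hk]
    intro h1
    have h2 : j ∣ i + 1 := Nat.dvd_of_mul_dvd_mul_left (by norm_num) h1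
    obtain ⟨c, hc⟩ := h2
    have hc1 : c < 2 := by
      by_contra hcon
      push Not at hcon
      have := Nat.mul_le_mul_left j hcon
      omega
    have hc0 : c ≠ 0 := by rintro rfl; omega
    obtain rfl : c = 1 := by omega
    omega
  · intro h1
    rw [Finset.mem_range] at h1
    omega

theorem dvd_prod (h : PP q k r) (hq : 2 ≤ q) (hk : 1 ≤ k) {n : ℕ} (hn : k ≤ n) :
    r ∣ ∏ i ∈ Finset.range n, (q ^ (2 * (i + 1)) - 1) := by
  refine dvd_trans ((h.dvd_iff (by omega) (2 * k)).2 (Dvd.intro_left 2 rfl)) ?_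
  have h1 := Finset.dvd_prod_of_mem (fun i => q ^ (2 * (i + 1)) - 1) (Finset.mem_range.2 (by omega : k - 1 < n))
  simp only [Nat.sub_add_cancel hk] at h1
  exact h1

theorem sq_sub (q m : ℕ) : q ^ (2 * m) - 1 = (q ^ m + 1) * (q ^ m - 1) := by
  have := Nat.sq_sub_sq (q ^ m) 1
  rw [one_pow, ← pow_mul, mul_comm m 2] at this
  exact this

end num

/-! ### cyclic subgroups -/

section cyc

variable {ι : Type} [Fintype ι] [DecidableEq ι] {F : Type u} [Field F] [Fintype F] {Q : QuadraticForm F (ι → F)}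

theorem cyc_all {k r : ℕ} (hr : PP (Nat.card F) k r) (hk3 : 3 ≤ k) (hn : Fintype.card ι < 2 * k)
    (P : Subgroup (POmega F (⇑Q))) (hP : IsPGroup r P) : IsCyclic P := by
  have h1 : CycP r (⊤ : Subgroup (POmega F (⇑Q))) := by
    refine cycP_of hr (by omega) fun g hg hgr hg1 => ?_
    have hx : lin g ^ r = 1 := by rw [← H251.GeoCard.toLin_pow, hgr]; exact lin_one
    have hiso : Iso Q (lin g) r := Iso.mk' hr (by omega) hx (lin_iso pre_le hg)
    have hadd := hiso.finrank_add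
    rw [finrank_V] at hadd
    have hne : finrank F (cm (lin g)) ≠ 0 := fun h0 => cm_ne_bot (lin_ne_one hg1) (Submodule.finrank_eq_zero.1 h0)
    obtain ⟨c, hc⟩ := hiso.dvd_cm hr
    have hc1 : c = 1 := by
      have h5 : c < 2 := by
        by_contra hcon
        push Not at hcon
        have := Nat.mul_le_mul_left k hcon
        omega
      have h6 : c ≠ 0 := by rintro rfl; omega
      omega
    rw [hc, hc1, mul_one]
  have h2 : IsCyclic (P.comap (⊤ : Subgroup (POmega F (⇑Q))).subtype) := h1 _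
    (hP.comap_of_injective _ (Subgroup.subtype_injective _))
  refine isCyclic_of_surjective (((⊤ : Subgroup (POmega F (⇑Q))).subtype).subgroupComap P) ?_
  rintro ⟨x, hx⟩
  exact ⟨⟨⟨x, Subgroup.mem_top x⟩, hx⟩, rfl⟩

end cyc

theorem cyc_tr {S T : Type*} [Group S] [Group T] {r : ℕ} (e : S ≃* T)
    (h : ∀ P : Subgroup T, IsPGroup r P → IsCyclic P) (P : Subgroup S) (hP : IsPGroup r P) : IsCyclic P := by
  have h1 := h (P.map e.toMonoidHom) (hP.map _)
  exact isCyclic_of_surjective (P.equivMapOfInjective e.toMonoidHom e.injective).symm.toMonoidHom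
    (P.equivMapOfInjective e.toMonoidHom e.injective).symm.surjective

variable {F : Type u} [Field F] [Fintype F]

theorem pp_q {p f k r : ℕ} (hf : 1 ≤ f) (hk : 1 ≤ k) (hr : PP p (f * k) r) : PP (p ^ f) k r :=
  ⟨hr.prime, H370.Rg.ord_q hr.ord (Nat.mul_pos hf hk)⟩

/-- (T6) primes of `PΩ⁻_2m(q)`, even order -/
theorem minus_even {S : Type v} [Group S] [Finite S] {m p f k r : ℕ} (hm : 4 ≤ m) {a b : F}
    (hab : ∀ z₁ z₂ : F, z₁ ^ 2 + a * z₁ * z₂ + b * z₂ ^ 2 = 0 → z₁ = 0 ∧ z₂ = 0)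
    (hp : p.Prime) (hf : 1 ≤ f) (hF : Fintype.card F = p ^ f) (hk : Even k) (hk3 : 3 ≤ k) (hmk : m < k) (hk2 : k ≤ 2 * m)
    (hr : PP p (f * k) r) (e : Nonempty (S ≃* POmega F (quadFormMinus (m - 1) F a b))) :
    (∀ P : Subgroup S, IsPGroup r P → IsCyclic P) ∧
      (Nat.card S).factorization r = ((p ^ f) ^ k - 1).factorization r ∧ r ∣ Nat.card S := by
  obtain ⟨e⟩ := e
  have hq : PP (p ^ f) k r := pp_q hf (by omega) hr
  have hq2 : 2 ≤ p ^ f := (hp.two_le).trans (Nat.le_self_pow (by omega) p)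
  obtain ⟨j, hj⟩ := hk
  have hj' : k = 2 * j := by omega
  have hcard := Cfsg.Agent.S0294.result hF m hm a b hab
  have hS : Nat.card S = Nat.card (POmega F (quadFormMinus (m - 1) F a b)) := Nat.card_congr e.toEquiv
  rw [← hS] at hcard
  have hfac : (Nat.card S).factorization r = ((p ^ f) ^ k - 1).factorization r := by
    have h1 := congrArg (fun n => n.factorization r) hcard
    have hS0 : Nat.card S ≠ 0 := Nat.card_pos.ne'
    have hg0 : Nat.gcd 4 ((p ^ f) ^ m + 1) ≠ 0 := fun h => by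
      have := (Nat.gcd_eq_zero_iff.1 h).1
      omega
    have hP0 : ∏ i ∈ Finset.range (m - 1), ((p ^ f) ^ (2 * (i + 1)) - 1) ≠ 0 :=
      Finset.prod_ne_zero_iff.2 fun i _ => pow_sub_ne hq2 (by omega)
    have hpow0 : (p ^ f) ^ (m * (m - 1)) ≠ 0 := pow_ne_zero _ (by omega)
    have hm0 : (p ^ f) ^ m + 1 ≠ 0 := by omega
    simp only [Nat.factorization_mul hg0 hS0, Nat.factorization_mul (mul_ne_zero hpow0 hm0) hP0,
      Nat.factorization_mul hpow0 hm0, Finsupp.add_apply] at h1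
    rw [Nat.factorization_eq_zero_of_not_dvd (not_dvd_gcd hq hk3 _),
      Nat.factorization_eq_zero_of_not_dvd (n := (p ^ f) ^ (m * (m - 1))) (fun h =>
        hq.not_dvd (by omega) (hq.prime.dvd_of_dvd_pow h)), zero_add, zero_add] at h1
    rw [h1]
    have hsq := sq_sub (p ^ f) m
    by_cases hkm : k = 2 * m
    · have hjm : j = m := by omega
      rw [fac_prod_zero hq hq2, add_zero, hkm, hsq, Nat.factorization_mul hm0 (pow_sub_ne hq2 (by omega)),
        Finsupp.add_apply, fac_zero hq hq2, add_zero]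
      · intro h
        have := Nat.le_of_dvd (by omega) h
        omega
      · intro i hi1 hi2 h
        have := Nat.le_of_dvd (by omega) h
        omega
    · rw [fac_prod hq hq2 hj' (by omega) (by omega) (by omega), Nat.factorization_eq_zero_of_not_dvd, zero_add]
      intro h
      have h2 : r ∣ (p ^ f) ^ (2 * m) - 1 := by rw [hsq]; exact h.mul_right _
      rw [hq.dvd_iff (by omega), hj'] at h2
      have h3 : j ∣ m := Nat.dvd_of_mul_dvd_mul_left (by norm_num) h2
      obtain ⟨c, hc⟩ := h3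
      have hc1 : c < 2 := by
        by_contra hcon
        push Not at hcon
        have := Nat.mul_le_mul_left j hcon
        omega
      have hc0 : c ≠ 0 := by rintro rfl; omega
      obtain rfl : c = 1 := by omega
      omega
  have hcF : Nat.card F = p ^ f := by rw [Nat.card_eq_fintype_card, hF]
  refine ⟨fun P hP => ?_, hfac, ?_⟩
  · have h1 : ∀ P : Subgroup (POmega F (⇑(quadMinus (m - 1) F a b))), IsPGroup r P → IsCyclic P :=
      fun P hP => cyc_all (by rw [hcF]; exact hq) hk3 (by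
        rw [card_minus (m := m) (by omega)]
        omega) P hP
    rw [coe_quadMinus] at h1
    exact cyc_tr e h1 P hP
  · have h2 : r ∣ (p ^ f) ^ k - 1 := (hq.dvd_iff (by omega) k).2 dvd_rfl
    have h3 := hq.prime.factorization_pos_of_dvd (pow_sub_ne hq2 (by omega)) h2
    rw [← hfac] at h3
    exact Nat.dvd_of_factorization_pos h3.ne'

/-- (T6') primes of `PΩ⁺_2m(q)`, even order -/
theorem plus_even {S : Type v} [Group S] [Finite S] {m p f k r : ℕ} (hm : 4 ≤ m)
    (hp : p.Prime) (hf : 1 ≤ f) (hF : Fintype.card F = p ^ f) (hk : Even k) (hk3 : 3 ≤ k) (hmk : m < k) (hk2 : k ≤ 2 * m - 2)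
    (hr : PP p (f * k) r) (e : Nonempty (S ≃* POmega F (quadFormPlus m F))) :
    (∀ P : Subgroup S, IsPGroup r P → IsCyclic P) ∧
      (Nat.card S).factorization r = ((p ^ f) ^ k - 1).factorization r ∧ r ∣ Nat.card S := by
  obtain ⟨e⟩ := e
  have hq : PP (p ^ f) k r := pp_q hf (by omega) hr
  have hq2 : 2 ≤ p ^ f := (hp.two_le).trans (Nat.le_self_pow (by omega) p)
  obtain ⟨j, hj⟩ := hk
  have hj' : k = 2 * j := by omega
  have hcard := Cfsg.Agent.S0293.result hF m hm
  have hS : Nat.card S = Nat.card (POmega F (quadFormPlus m F)) := Nat.card_congr e.toEquiv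
  rw [← hS] at hcard
  have hfac : (Nat.card S).factorization r = ((p ^ f) ^ k - 1).factorization r := by
    have h1 := congrArg (fun n => n.factorization r) hcard
    have hS0 : Nat.card S ≠ 0 := Nat.card_pos.ne'
    have hg0 : Nat.gcd 4 ((p ^ f) ^ m - 1) ≠ 0 := fun h => by
      have := (Nat.gcd_eq_zero_iff.1 h).1
      omega
    have hP0 : ∏ i ∈ Finset.range (m - 1), ((p ^ f) ^ (2 * (i + 1)) - 1) ≠ 0 :=
      Finset.prod_ne_zero_iff.2 fun i _ => pow_sub_ne hq2 (by omega)
    have hpow0 : (p ^ f) ^ (m * (m - 1)) ≠ 0 := pow_ne_zero _ (by omega)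
    have hm0 : (p ^ f) ^ m - 1 ≠ 0 := pow_sub_ne hq2 (by omega)
    simp only [Nat.factorization_mul hg0 hS0, Nat.factorization_mul (mul_ne_zero hpow0 hm0) hP0,
      Nat.factorization_mul hpow0 hm0, Finsupp.add_apply] at h1
    rw [Nat.factorization_eq_zero_of_not_dvd (not_dvd_gcd hq hk3 _),
      Nat.factorization_eq_zero_of_not_dvd (n := (p ^ f) ^ (m * (m - 1))) (fun h =>
        hq.not_dvd (by omega) (hq.prime.dvd_of_dvd_pow h)), zero_add, zero_add, fac_zero hq hq2 (i := m) (fun h => by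
        have := Nat.le_of_dvd (by omega) h
        omega), zero_add, fac_prod hq hq2 hj' (by omega) (by omega) (by omega)] at h1
    exact h1
  have hcF : Nat.card F = p ^ f := by rw [Nat.card_eq_fintype_card, hF]
  refine ⟨fun P hP => ?_, hfac, ?_⟩
  · have h1 : ∀ P : Subgroup (POmega F (⇑(quadPlus m F))), IsPGroup r P → IsCyclic P :=
      fun P hP => cyc_all (by rw [hcF]; exact hq) hk3 (by
        rw [card_plus m]
        omega) P hP
    rw [coe_quadPlus] at h1
    exact cyc_tr e h1 P hP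
  · have h2 : r ∣ (p ^ f) ^ k - 1 := (hq.dvd_iff (by omega) k).2 dvd_rfl
    have h3 := hq.prime.factorization_pos_of_dvd (pow_sub_ne hq2 (by omega)) h2
    rw [← hfac] at h3
    exact Nat.dvd_of_factorization_pos h3.ne'

/-- (T6'') primes of odd order: `t ∣ |T|` -/
theorem minus_odd {S : Type v} [Group S] [Finite S] {m p f k r : ℕ} (hm : 4 ≤ m) {a b : F}
    (hab : ∀ z₁ z₂ : F, z₁ ^ 2 + a * z₁ * z₂ + b * z₂ ^ 2 = 0 → z₁ = 0 ∧ z₂ = 0)
    (hp : p.Prime) (hf : 1 ≤ f) (hF : Fintype.card F = p ^ f) (hk3 : 3 ≤ k) (hkm : k < m)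
    (hr : PP p (f * k) r) (e : Nonempty (S ≃* POmega F (quadFormMinus (m - 1) F a b))) : r ∣ Nat.card S := by
  obtain ⟨e⟩ := e
  have hq : PP (p ^ f) k r := pp_q hf (by omega) hr
  have hq2 : 2 ≤ p ^ f := (hp.two_le).trans (Nat.le_self_pow (by omega) p)
  have hcard := Cfsg.Agent.S0294.result hF m hm a b hab
  have hS : Nat.card S = Nat.card (POmega F (quadFormMinus (m - 1) F a b)) := Nat.card_congr e.toEquiv
  rw [← hS] at hcard
  have h1 : r ∣ Nat.gcd 4 ((p ^ f) ^ m + 1) * Nat.card S := by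
    rw [hcard]
    exact (dvd_prod hq hq2 (by omega) (by omega)).mul_left _
  exact (hq.prime.dvd_mul.1 h1).resolve_left (not_dvd_gcd hq hk3 _)

theorem plus_odd {S : Type v} [Group S] [Finite S] {m p f k r : ℕ} (hm : 4 ≤ m)
    (hp : p.Prime) (hf : 1 ≤ f) (hF : Fintype.card F = p ^ f) (hk3 : 3 ≤ k) (hkm : k ≤ m)
    (hr : PP p (f * k) r) (e : Nonempty (S ≃* POmega F (quadFormPlus m F))) : r ∣ Nat.card S := by
  obtain ⟨e⟩ := e
  have hq : PP (p ^ f) k r := pp_q hf (by omega) hr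
  have hq2 : 2 ≤ p ^ f := (hp.two_le).trans (Nat.le_self_pow (by omega) p)
  have hcard := Cfsg.Agent.S0293.result hF m hm
  have hS : Nat.card S = Nat.card (POmega F (quadFormPlus m F)) := Nat.card_congr e.toEquiv
  rw [← hS] at hcard
  have h1 : r ∣ Nat.gcd 4 ((p ^ f) ^ m - 1) * Nat.card S := by
    rw [hcard]
    rcases Nat.lt_or_ge k m with h2 | h2
    · exact (dvd_prod hq hq2 (by omega) (by omega)).mul_left _
    · obtain rfl : k = m := by omega
      exact (((hq.dvd_iff (by omega) k).2 dvd_rfl).mul_left _).mul_right _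
  exact (hq.prime.dvd_mul.1 h1).resolve_left (not_dvd_gcd hq hk3 _)

end Cfsg.Agent.H70.Rg
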